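import Groth.Agent.L10.Hyper.Refine
import Mathlib.Data.Fintype.Pi
import Mathlib.Data.Fintype.Card
import Mathlib.Order.Hom.Basic

/-! Local extension of families on the simplices of a finite poset. -/

universe u

open CategoryTheory CategoryTheory.Limits Opposite Simplicial

set_option backward.defeqAttrib.useBackward true
set_option backward.isDefEq.respectTransparency false

namespace Groth.L07.Hyper

open Groth.L10.Hyper

/-- The simplices of a poset. -/
abbrev Simp (T : Type) [PartialOrder T] (Δ : SimplexCategory) : Type := Fin (Δ.len + 1) →o T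

instance finite_simp (T : Type) [PartialOrder T] [Finite T] (Δ : SimplexCategory) : Finite (Simp T Δ) :=
  Finite.of_injective (fun f : Simp T Δ => (f : Fin (Δ.len + 1) → T)) fun _ _ h => OrderHom.ext _ _ h

variable {T : Type} [PartialOrder T]

/-- Restriction of a simplex. -/
abbrev rs {Δ Δ' : SimplexCategory} (θ : Δ' ⟶ Δ) (f : Simp T Δ) : Simp T Δ' := f.comp θ.toOrderHom

theorem rs_comp {Δ Δ' Δ'' : SimplexCategory} (θ : Δ' ⟶ Δ) (φ : Δ'' ⟶ Δ') (f : Simp T Δ) :
    rs φ (rs θ f) = rs (φ ≫ θ) f := rfl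

/-- A degenerate simplex is a degeneracy of one of its faces. -/
theorem exists_eq_rs_σ {d : ℕ} (f : Simp T ⦋d + 1⦌) (hf : ¬ Function.Injective f) :
    ∃ i : Fin (d + 1), f = rs (SimplexCategory.σ i) (rs (SimplexCategory.δ i.succ) f) ∧ f i.castSucc = f i.succ := by
  have hf' : ∃ a b : Fin (d + 2), a < b ∧ f a = f b := by
    simp only [Function.Injective, not_forall] at hf
    obtain ⟨a, b, hab, hne⟩ := hf
    rcases lt_or_gt_of_ne hne with h | h
    · exact ⟨a, b, h, hab⟩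
    · exact ⟨b, a, h, hab.symm⟩
  obtain ⟨a, b, hlt, hab⟩ := hf'
  have ha : (a : ℕ) < d + 1 := by have := b.isLt; have : (a : ℕ) < b := hlt; omega
  let i : Fin (d + 1) := ⟨a, ha⟩
  have he : f i.castSucc = f i.succ := by
    refine le_antisymm (f.monotone (by simp [Fin.le_def, i])) ?_
    calc f i.succ ≤ f b := f.monotone (by
          show (a : ℕ) + 1 ≤ (b : ℕ); have : (a : ℕ) < b := hlt; omega)
      _ = f a := hab.symm
  refine ⟨i, ?_, he⟩
  refine OrderHom.ext _ _ (funext fun x => ?_)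
  show f x = f (i.succ.succAbove (i.predAbove x))
  by_cases hx : x = i.succ
  · subst hx
    rw [Fin.predAbove_succ_self, Fin.succAbove_succ_self]
    exact he.symm
  · rw [Fin.succ_succAbove_predAbove hx]

/-- Every simplex factors through a nondegenerate one. -/
theorem exists_strictMono_factor {Δ : SimplexCategory} (f : Simp T Δ) :
    ∃ (d : ℕ) (f₀ : Simp T ⦋d⦌) (σ : Δ ⟶ ⦋d⦌), StrictMono f₀ ∧ rs σ f₀ = f := by
  induction Δ using SimplexCategory.rec with
  | _ m =>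
  induction m with
  | zero => exact ⟨0, f, 𝟙 _, fun x y h => absurd h (by
      have := Subsingleton.elim (α := Fin 1) x y; subst this; exact lt_irrefl _), rfl⟩
  | succ m ih =>
    by_cases hf : Function.Injective f
    · exact ⟨m + 1, f, 𝟙 _, f.monotone.strictMono_of_injective hf, rfl⟩
    · obtain ⟨i, hi, -⟩ := exists_eq_rs_σ f hf
      obtain ⟨d, f₀, σ, h₀, e⟩ := ih (rs (SimplexCategory.δ i.succ) f)
      exact ⟨d, f₀, SimplexCategory.σ i ≫ σ, h₀, by rw [← rs_comp, e]; exact hi.symm⟩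

theorem len_lt_of_strictMono [Fintype T] {d : ℕ} {f : Simp T ⦋d⦌} (hf : StrictMono f) : d < Fintype.card T := by
  have := Fintype.card_le_of_injective _ hf.injective
  simp only [SimplexCategory.len_mk, Fintype.card_fin] at this
  omega

variable {C : Type u} [SmallCategory C] {J : GrothendieckTopology C} (L : SimplicialObject (FormalCoproduct.{u} C))

/-- A family defined on some simplices. -/
structure PFam (T : Type) [PartialOrder T] (U : C) where
  /-- The domain. -/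
  S : ∀ Δ, Simp T Δ → Prop
  closed : ∀ {Δ Δ' : SimplexCategory} (θ : Δ' ⟶ Δ) (f : Simp T Δ), S Δ f → S Δ' (rs θ f)
  /-- The values. -/
  v : ∀ Δ f, S Δ f → ((FormalCoproduct.incl C).obj U ⟶ L.obj (op Δ))
  nat : ∀ {Δ Δ' : SimplexCategory} (θ : Δ' ⟶ Δ) (f : Simp T Δ) (h : S Δ f),
    v Δ f h ≫ L.map θ.op = v Δ' (rs θ f) (closed θ f h)

variable {L}

theorem PFam.congr {U : C} (Q : PFam L T U) {Δ : SimplexCategory} {f g : Simp T Δ} (e : f = g) (hf : Q.S Δ f)
    (hg : Q.S Δ g) : Q.v Δ f hf = Q.v Δ g hg := by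
  subst e; rfl

/-- Restriction along a morphism. -/
def PFam.res {U V : C} (Q : PFam L T U) (a : V ⟶ U) : PFam L T V where
  S := Q.S
  closed := Q.closed
  v Δ f h := (FormalCoproduct.incl C).map a ≫ Q.v Δ f h
  nat θ f h := by rw [Category.assoc, Q.nat]

/-- A family extends another one after restriction. -/
def Extends {U V : C} (P : PFam L T V) (Q : PFam L T U) (a : V ⟶ U) : Prop :=
  ∀ Δ f (h : Q.S Δ f), ∃ h', P.v Δ f h' = (FormalCoproduct.incl C).map a ≫ Q.v Δ f h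

theorem Extends.res {U V : C} (Q : PFam L T U) (a : V ⟶ U) : Extends (Q.res a) Q a := fun _ _ h => ⟨h, rfl⟩

theorem Extends.trans {U V W : C} {P : PFam L T W} {R : PFam L T V} {Q : PFam L T U} {b : W ⟶ V} {a : V ⟶ U}
    (h : Extends P R b) (h' : Extends R Q a) : Extends P Q (b ≫ a) := fun Δ f hf => by
  obtain ⟨hR, eR⟩ := h' Δ f hf
  obtain ⟨hP, eP⟩ := h Δ f hR
  exact ⟨hP, by rw [eP, eR, Functor.map_comp, Category.assoc]⟩

theorem Extends.mem {U V : C} {P : PFam L T V} {Q : PFam L T U} {a : V ⟶ U} (h : Extends P Q a) {Δ : SimplexCategory}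
    {f : Simp T Δ} (hf : Q.S Δ f) : P.S Δ f := (h Δ f hf).1

/-- Extending over one nondegenerate simplex. -/
theorem exists_extend_cell (hL : HomFill J L) {U : C} (Q : PFam L T U) {d : ℕ} (f : Simp T ⦋d + 1⦌) (hf : StrictMono f)
    (hfaces : ∀ j, Q.S ⦋d⦌ (rs (SimplexCategory.δ j) f)) :
    ∃ R ∈ J U, ∀ ⦃V⦄ (a : V ⟶ U), R a → ∃ P : PFam L T V, Extends P Q a ∧ P.S ⦋d + 1⦌ f := by
  classical
  by_cases hfS : Q.S ⦋d + 1⦌ f
  · exact ⟨⊤, J.top_mem U, fun V a _ => ⟨Q.res a, Extends.res Q a, hfS⟩⟩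
  let y : Fin (d + 2) → ((FormalCoproduct.incl C).obj U ⟶ L _⦋d⦌) := fun j => Q.v _ _ (hfaces j)
  have hy : Compat y := by
    rintro m rfl i j hij
    simp only [Fin.cast_refl, id_eq, y, SimplicialObject.δ]
    rw [Q.nat, Q.nat]
    refine Q.congr ?_ _ _
    rw [rs_comp, rs_comp, SimplexCategory.δ_comp_δ hij]
  obtain ⟨R, hR, hw⟩ := hL d U y hy
  refine ⟨R, hR, fun V a ha => ?_⟩
  obtain ⟨w, hw⟩ := hw a ha
  let v' : ∀ Δ g, (Q.S Δ g ∨ ∃ θ : Δ ⟶ ⦋d + 1⦌, g = rs θ f) → ((FormalCoproduct.incl C).obj V ⟶ L.obj (op Δ)) :=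
    fun Δ g h => if hQ : Q.S Δ g then (FormalCoproduct.incl C).map a ≫ Q.v Δ g hQ
      else w ≫ L.map (h.resolve_left hQ).choose.op
  have key : ∀ {Δ : SimplexCategory} (θ : Δ ⟶ ⦋d + 1⦌) h, v' Δ (rs θ f) h = w ≫ L.map θ.op := by
    intro Δ θ h
    by_cases hQ : Q.S Δ (rs θ f)
    · simp only [v', dif_pos hQ]
      by_cases hθ : Function.Surjective θ.toOrderHom
      · refine absurd ?_ hfS
        have : Epi θ := SimplexCategory.epi_iff_surjective.2 hθ
        have : IsSplitEpi θ := isSplitEpi_of_epi θ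
        have h1 := Q.closed (section_ θ) _ hQ
        rw [rs_comp, IsSplitEpi.id] at h1
        exact h1
      · obtain ⟨j, β, rfl⟩ := SimplexCategory.eq_comp_δ_of_not_surjective θ hθ
        rw [op_comp, Functor.map_comp, ← SimplicialObject.δ.eq_def, reassoc_of% (hw j)]
        simp only [y, Q.nat]
        exact congrArg _ (Q.congr (rs_comp _ _ _).symm _ _)
    · simp only [v', dif_neg hQ]
      congr 2
      generalize_proofs h1
      have h2 := h1.choose_spec
      refine congrArg Quiver.Hom.op (SimplexCategory.Hom.ext _ _ (OrderHom.ext _ _ (funext fun x => hf.injective ?_)))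
      exact (DFunLike.congr_fun h2 x).symm
  refine ⟨{ S := fun Δ g => Q.S Δ g ∨ ∃ θ : Δ ⟶ ⦋d + 1⦌, g = rs θ f
            closed := fun φ g h => h.imp (Q.closed φ g) fun ⟨θ, e⟩ => ⟨φ ≫ θ, by rw [e, rs_comp]⟩
            v := v'
            nat := ?_ }, fun Δ g h => ⟨Or.inl h, dif_pos h⟩, Or.inr ⟨𝟙 _, rfl⟩⟩
  intro Δ Δ' φ g h
  by_cases hQ : Q.S Δ g
  · simp only [v', dif_pos hQ, dif_pos (Q.closed φ g hQ), Category.assoc, Q.nat]
  · obtain ⟨θ, rfl⟩ := h.resolve_left hQ
    rw [key θ h, Category.assoc, ← Functor.map_comp, ← op_comp]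
    exact (key (φ ≫ θ) (Or.inr ⟨_, rfl⟩)).symm

/-- Extending over all nondegenerate simplices of a given dimension. -/
theorem exists_extend_dim [Finite T] (hL : HomFill J L) {U : C} (Q : PFam L T U) (d : ℕ)
    (hd : ∀ g : Simp T ⦋d⦌, StrictMono g → Q.S ⦋d⦌ g) :
    ∃ R ∈ J U, ∀ ⦃V⦄ (a : V ⟶ U), R a → ∃ P : PFam L T V, Extends P Q a ∧
      ∀ g : Simp T ⦋d + 1⦌, StrictMono g → P.S ⦋d + 1⦌ g := by
  classical
  have := Fintype.ofFinite (Simp T ⦋d + 1⦌)
  suffices ∀ F : Finset (Simp T ⦋d + 1⦌), ∃ R ∈ J U, ∀ ⦃V⦄ (a : V ⟶ U), R a → ∃ P : PFam L T V, Extends P Q a ∧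
      ∀ g ∈ F, StrictMono g → P.S ⦋d + 1⦌ g by
    obtain ⟨R, hR, h⟩ := this Finset.univ
    exact ⟨R, hR, fun V a ha => (h a ha).imp fun P hP => ⟨hP.1, fun g => hP.2 g (Finset.mem_univ g)⟩⟩
  intro F
  induction F using Finset.induction with
  | empty => exact ⟨⊤, J.top_mem U, fun V a _ => ⟨Q.res a, Extends.res Q a, fun g hg => absurd hg (Finset.notMem_empty g)⟩⟩
  | insert f F _ ih =>
    obtain ⟨R, hR, h⟩ := ih
    by_cases hf : StrictMono f
    · choose P hP hPF using h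
      choose R' hR' h' using fun (V : C) (a : V ⟶ U) (ha : R a) => exists_extend_cell hL (P a ha) f hf fun j =>
        (hP a ha).mem (hd _ (hf.comp (Fin.strictMono_succAbove j)))
      refine ⟨Sieve.bind R.arrows fun V a ha => R' V a ha, J.bind_covering hR (fun V a ha => hR' V a ha), ?_⟩
      rintro W _ ⟨V, b, a, ha, hb, rfl⟩
      obtain ⟨P', hP', hf'⟩ := h' V a ha b hb
      refine ⟨P', hP'.trans (hP a ha), fun g hg hgm => ?_⟩
      rcases Finset.mem_insert.1 hg with rfl | hg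
      · exact hf'
      · exact hP'.mem (hPF a ha g hg hgm)
    · refine ⟨R, hR, fun V a ha => (h a ha).imp fun P hP => ⟨hP.1, fun g hg hgm => ?_⟩⟩
      rcases Finset.mem_insert.1 hg with rfl | hg
      · exact absurd hgm hf
      · exact hP.2 g hg hgm

/-- A family containing the vertices extends locally to all simplices. -/
theorem exists_extend_all [Finite T] (hL : HomFill J L) {U : C} (Q : PFam L T U)
    (h0 : ∀ g : Simp T ⦋0⦌, Q.S ⦋0⦌ g) :
    ∃ R ∈ J U, ∀ ⦃V⦄ (a : V ⟶ U), R a → ∃ P : PFam L T V, Extends P Q a ∧ ∀ Δ g, P.S Δ g := by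
  classical
  have := Fintype.ofFinite T
  suffices ∀ k : ℕ, ∃ R ∈ J U, ∀ ⦃V⦄ (a : V ⟶ U), R a → ∃ P : PFam L T V, Extends P Q a ∧
      ∀ d ≤ k, ∀ g : Simp T ⦋d⦌, StrictMono g → P.S ⦋d⦌ g by
    obtain ⟨R, hR, h⟩ := this (Fintype.card T)
    refine ⟨R, hR, fun V a ha => (h a ha).imp fun P hP => ⟨hP.1, fun Δ g => ?_⟩⟩
    obtain ⟨d, g₀, σ, hg₀, rfl⟩ := exists_strictMono_factor g
    exact P.closed σ g₀ (hP.2 d (len_lt_of_strictMono hg₀).le g₀ hg₀)
  intro k
  induction k with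
  | zero => exact ⟨⊤, J.top_mem U, fun V a _ => ⟨Q.res a, Extends.res Q a, fun d hd g _ => by
      obtain rfl := Nat.le_zero.1 hd; exact h0 g⟩⟩
  | succ k ih =>
    obtain ⟨R, hR, h⟩ := ih
    choose P hP hPk using h
    choose R' hR' h' using fun (V : C) (a : V ⟶ U) (ha : R a) =>
      exists_extend_dim hL (P a ha) k fun g hg => hPk a ha k le_rfl g hg
    refine ⟨Sieve.bind R.arrows fun V a ha => R' V a ha, J.bind_covering hR (fun V a ha => hR' V a ha), ?_⟩
    rintro W _ ⟨V, b, a, ha, hb, rfl⟩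
    obtain ⟨P', hP', hk'⟩ := h' V a ha b hb
    refine ⟨P', hP'.trans (hP a ha), fun d hd g hg => ?_⟩
    rcases Nat.lt_or_eq_of_le hd with hd | rfl
    · exact hP'.mem (hPk a ha d (Nat.lt_succ_iff.1 hd) g hg)
    · exact hk' g hg

end Groth.L07.Hyper
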