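import Groth.Agent.L07.Hyper.Extend
import Mathlib.CategoryTheory.Limits.Constructions.Equalizers

/-! The object of homotopies between two maps out of a point of a simplicial object. -/

universe u

open CategoryTheory CategoryTheory.Limits Opposite Simplicial

set_option backward.defeqAttrib.useBackward true
set_option backward.isDefEq.respectTransparency false

namespace Groth.L07.Hyper

/-- The prism poset. -/
abbrev Cyl (N : SimplexCategory) : Type := Fin (N.len + 1) × Fin 2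

/-- A simplex at one of the ends. -/
def pr {N Δ : SimplexCategory} (α : Δ ⟶ N) (e : Fin 2) : Simp (Cyl N) Δ :=
  α.toOrderHom.prod (OrderHom.const _ e)

/-- Functoriality of the prism. -/
def cylMap {N N' : SimplexCategory} (θ : N' ⟶ N) : Cyl N' →o Cyl N :=
  ⟨fun x => (θ.toOrderHom x.1, x.2), fun _ _ h => ⟨θ.toOrderHom.monotone h.1, h.2⟩⟩

theorem cylMap_pr {N N' Δ : SimplexCategory} (θ : N' ⟶ N) (α : Δ ⟶ N') (e : Fin 2) :
    (cylMap θ).comp (pr α e) = pr (α ≫ θ) e := rfl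

theorem rs_pr {N Δ Δ' : SimplexCategory} (φ : Δ' ⟶ Δ) (α : Δ ⟶ N) (e : Fin 2) :
    rs φ (pr α e) = pr (φ ≫ α) e := rfl

theorem cylMap_rs {N N' Δ Δ' : SimplexCategory} (θ : N' ⟶ N) (φ : Δ' ⟶ Δ) (f : Simp (Cyl N') Δ) :
    (cylMap θ).comp (rs φ f) = rs φ ((cylMap θ).comp f) := rfl

theorem pr_injective {N Δ : SimplexCategory} {α α' : Δ ⟶ N} {e e' : Fin 2} (h : pr α e = pr α' e') :
    α = α' ∧ e = e' :=
  ⟨SimplexCategory.Hom.ext _ _ (OrderHom.ext _ _ (funext fun x => congrArg Prod.fst (DFunLike.congr_fun h x))),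
    congrArg Prod.snd (DFunLike.congr_fun h 0)⟩

variable {C : Type u} [SmallCategory C] {K L : SimplicialObject (FormalCoproduct.{u} C)}

/-- The map at an end. -/
def endMap (a b : K ⟶ L) (e : Fin 2) : K ⟶ L := if e = 0 then a else b

/-- A point with a homotopy between its two images. -/
@[ext]
structure Htp (a b : K ⟶ L) (N : SimplexCategory) (Z : FormalCoproduct.{u} C) where
  /-- The point. -/
  w : Z ⟶ K.obj (op N)
  /-- The homotopy. -/
  h : ∀ Δ, Simp (Cyl N) Δ → (Z ⟶ L.obj (op Δ))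
  nat : ∀ {Δ Δ' : SimplexCategory} (φ : Δ' ⟶ Δ) (f : Simp (Cyl N) Δ), h Δ f ≫ L.map φ.op = h Δ' (rs φ f)
  ends : ∀ (Δ : SimplexCategory) (α : Δ ⟶ N) (e : Fin 2),
    h Δ (pr α e) = w ≫ K.map α.op ≫ (endMap a b e).app (op Δ)

variable {a b : K ⟶ L}

/-- Restriction of homotopies. -/
def Htp.res {N : SimplexCategory} {Z Z' : FormalCoproduct.{u} C} (x : Htp a b N Z) (g : Z' ⟶ Z) : Htp a b N Z' where
  w := g ≫ x.w
  h Δ f := g ≫ x.h Δ f
  nat φ f := by rw [Category.assoc, x.nat]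
  ends Δ α e := by rw [x.ends, Category.assoc]

/-- Simplicial operators on homotopies. -/
def Htp.act {N N' : SimplexCategory} {Z : FormalCoproduct.{u} C} (x : Htp a b N Z) (θ : N' ⟶ N) : Htp a b N' Z where
  w := x.w ≫ K.map θ.op
  h Δ f := x.h Δ ((cylMap θ).comp f)
  nat φ f := by rw [x.nat, cylMap_rs]
  ends Δ α e := by rw [cylMap_pr, x.ends, op_comp, Functor.map_comp, Category.assoc, Category.assoc]

theorem Htp.res_res {N : SimplexCategory} {Z Z' Z'' : FormalCoproduct.{u} C} (x : Htp a b N Z) (g : Z' ⟶ Z)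
    (g' : Z'' ⟶ Z') : (x.res g).res g' = x.res (g' ≫ g) :=
  Htp.ext (Category.assoc _ _ _).symm (funext fun _ => funext fun _ => (Category.assoc _ _ _).symm)

theorem Htp.res_id {N : SimplexCategory} {Z : FormalCoproduct.{u} C} (x : Htp a b N Z) : x.res (𝟙 Z) = x :=
  Htp.ext (Category.id_comp _) (funext fun _ => funext fun _ => Category.id_comp _)

theorem Htp.act_res {N N' : SimplexCategory} {Z Z' : FormalCoproduct.{u} C} (x : Htp a b N Z) (θ : N' ⟶ N)
    (g : Z' ⟶ Z) : (x.act θ).res g = (x.res g).act θ :=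
  Htp.ext (Category.assoc _ _ _).symm rfl

theorem Htp.act_act {N N' N'' : SimplexCategory} {Z : FormalCoproduct.{u} C} (x : Htp a b N Z) (θ : N' ⟶ N)
    (θ' : N'' ⟶ N') : (x.act θ).act θ' = x.act (θ' ≫ θ) :=
  Htp.ext (by simp [Htp.act]) rfl

theorem Htp.act_id {N : SimplexCategory} {Z : FormalCoproduct.{u} C} (x : Htp a b N Z) : x.act (𝟙 N) = x :=
  Htp.ext (by simp [Htp.act]) rfl

/-- Values on all simplices from values in bounded dimension. -/
theorem exists_extend_trunc {T : Type} [PartialOrder T] [Fintype T] {Z : FormalCoproduct.{u} C}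
    (v : ∀ d, d < Fintype.card T → Simp T ⦋d⦌ → (Z ⟶ L _⦋d⦌))
    (hv : ∀ (d d' : ℕ) (hd : d < Fintype.card T) (hd' : d' < Fintype.card T) (φ : (⦋d'⦌ : SimplexCategory) ⟶ ⦋d⦌)
      (f : Simp T ⦋d⦌), v d hd f ≫ L.map φ.op = v d' hd' (rs φ f)) :
    ∃ h : ∀ Δ, Simp T Δ → (Z ⟶ L.obj (op Δ)),
      (∀ {Δ Δ' : SimplexCategory} (φ : Δ' ⟶ Δ) (f : Simp T Δ), h Δ f ≫ L.map φ.op = h Δ' (rs φ f)) ∧
      ∀ d (hd : d < Fintype.card T) f, h ⦋d⦌ f = v d hd f := by
  classical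
  have wd : ∀ (m d d' : ℕ) (hd : d < Fintype.card T) (hd' : d' < Fintype.card T) (f : Simp T ⦋d⦌) (f' : Simp T ⦋d'⦌),
      StrictMono f → StrictMono f' → ∀ (φ : (⦋m⦌ : SimplexCategory) ⟶ ⦋d⦌) (φ' : (⦋m⦌ : SimplexCategory) ⟶ ⦋d'⦌),
      rs φ f = rs φ' f' → v d hd f ≫ L.map φ.op = v d' hd' f' ≫ L.map φ'.op := by
    intro m
    induction m with
    | zero =>
      intro d d' hd hd' f f' _ _ φ φ' e
      rw [hv d 0 hd (Nat.lt_of_le_of_lt (Nat.zero_le _) hd), hv d' 0 hd' (Nat.lt_of_le_of_lt (Nat.zero_le _) hd), e]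
    | succ m ih =>
      intro d d' hd hd' f f' hf hf' φ φ' e
      by_cases hm : m + 1 < Fintype.card T
      · rw [hv d _ hd hm, hv d' _ hd' hm, e]
      · have hni : ¬ Function.Injective (rs φ f) := fun hinj => hm (by
          have := Fintype.card_le_of_injective _ hinj
          simp only [SimplexCategory.len_mk, Fintype.card_fin] at this
          omega)
        obtain ⟨i, -, hi⟩ := exists_eq_rs_σ _ hni
        have hi' : rs φ' f' i.castSucc = rs φ' f' i.succ := by rw [← e]; exact hi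
        have collapse : ∀ {n : ℕ} (g : Simp T ⦋n⦌) (ψ : (⦋m + 1⦌ : SimplexCategory) ⟶ ⦋n⦌), StrictMono g →
            rs ψ g i.castSucc = rs ψ g i.succ →
            ψ = SimplexCategory.σ i ≫ SimplexCategory.δ i.succ ≫ ψ := by
          intro n g ψ hg hψ
          refine SimplexCategory.Hom.ext _ _ (OrderHom.ext _ _ (funext fun x => ?_))
          show ψ.toOrderHom x = ψ.toOrderHom (i.succ.succAbove (i.predAbove x))
          by_cases hx : x = i.succ
          · subst hx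
            rw [Fin.predAbove_succ_self, Fin.succAbove_succ_self]
            exact (hg.injective hψ).symm
          · rw [Fin.succ_succAbove_predAbove hx]
        rw [collapse f φ hf hi, collapse f' φ' hf' hi']
        simp only [op_comp, Functor.map_comp, ← Category.assoc]
        congr 1
        simp only [Category.assoc, ← Functor.map_comp, ← op_comp]
        exact ih d d' hd hd' f f' hf hf' _ _ (by rw [← rs_comp, e, rs_comp])
  choose dd f₀ σ hf₀ hσ using fun (Δ : SimplexCategory) (g : Simp T Δ) => exists_strictMono_factor g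
  let h : ∀ Δ, Simp T Δ → (Z ⟶ L.obj (op Δ)) := fun Δ g =>
    v (dd Δ g) (len_lt_of_strictMono (hf₀ Δ g)) (f₀ Δ g) ≫ L.map (σ Δ g).op
  have hh : ∀ (m d : ℕ) (hd : d < Fintype.card T) (f : Simp T ⦋d⦌) (φ : (⦋m⦌ : SimplexCategory) ⟶ ⦋d⦌),
      h ⦋m⦌ (rs φ f) = v d hd f ≫ L.map φ.op := by
    intro m d hd f φ
    obtain ⟨d', f', τ, hf', rfl⟩ := exists_strictMono_factor f
    rw [← hv d' d (len_lt_of_strictMono hf') hd, Category.assoc, ← Functor.map_comp, ← op_comp]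
    exact wd _ _ _ _ _ _ _ (hf₀ _ _) hf' _ _ ((hσ _ _).trans (rs_comp _ _ _))
  refine ⟨h, fun {Δ Δ'} φ f => ?_, fun d hd f => ?_⟩
  · induction Δ' using SimplexCategory.rec with
    | _ m =>
    conv_rhs => rw [← hσ Δ f, rs_comp]
    rw [hh m _ (len_lt_of_strictMono (hf₀ Δ f))]
    simp only [h, Category.assoc, ← Functor.map_comp, ← op_comp]
  · have := hh d d hd f (𝟙 _)
    rw [op_id, CategoryTheory.Functor.map_id, Category.comp_id] at this
    exact this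

section

variable [HasFiniteProducts (FormalCoproduct.{u} C)] [HasEqualizers (FormalCoproduct.{u} C)]

/-- Homotopies are representable. -/
theorem exists_univ (a b : K ⟶ L) (N : SimplexCategory) :
    ∃ (E : FormalCoproduct.{u} C) (x₀ : Htp a b N E), ∀ (Z : FormalCoproduct.{u} C) (x : Htp a b N Z),
      ∃! g : Z ⟶ E, x₀.res g = x := by
  classical
  let D := Fintype.card (Cyl N)
  let ι := Σ d : Fin D, Simp (Cyl N) ⦋(d : ℕ)⦌
  let κ₁ := Σ (i : ι) (d : Fin D), (⦋(d : ℕ)⦌ : SimplexCategory) ⟶ ⦋(i.1 : ℕ)⦌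
  let κ₂ := Σ d : Fin D, ((⦋(d : ℕ)⦌ : SimplexCategory) ⟶ N) × Fin 2
  have : Finite ι := inferInstance
  have : Finite κ₁ := inferInstance
  have : Finite κ₂ := inferInstance
  let P : FormalCoproduct.{u} C := ∏ᶜ fun i : ι => L _⦋(i.1 : ℕ)⦌
  let B : FormalCoproduct.{u} C := prod (K.obj (op N)) P
  let πi : ∀ i : ι, B ⟶ L _⦋(i.1 : ℕ)⦌ := fun i => prod.snd ≫ Pi.π (fun i : ι => L _⦋(i.1 : ℕ)⦌) i
  let Q₁ : FormalCoproduct.{u} C := ∏ᶜ fun k : κ₁ => L _⦋(k.2.1 : ℕ)⦌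
  let Q₂ : FormalCoproduct.{u} C := ∏ᶜ fun k : κ₂ => L _⦋(k.1 : ℕ)⦌
  let p : B ⟶ prod Q₁ Q₂ := prod.lift (Pi.lift fun k : κ₁ => πi k.1 ≫ L.map k.2.2.op)
    (Pi.lift fun k : κ₂ => πi ⟨k.1, pr k.2.1 k.2.2⟩)
  let q : B ⟶ prod Q₁ Q₂ := prod.lift (Pi.lift fun k : κ₁ => πi ⟨k.2.1, rs k.2.2 k.1.2⟩)
    (Pi.lift fun k : κ₂ => prod.fst ≫ K.map k.2.1.op ≫ (endMap a b k.2.2).app (op ⦋(k.1 : ℕ)⦌))
  have hpq₁ : ∀ {Z : FormalCoproduct.{u} C} (z : Z ⟶ B), z ≫ p = z ≫ q → ∀ k : κ₁,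
      z ≫ πi k.1 ≫ L.map k.2.2.op = z ≫ πi ⟨k.2.1, rs k.2.2 k.1.2⟩ := fun z hz k => by
    have := hz =≫ (prod.fst ≫ Pi.π (fun k : κ₁ => L _⦋(k.2.1 : ℕ)⦌) k)
    simpa only [p, q, Category.assoc, prod.lift_fst_assoc, Pi.lift_π] using this
  have hpq₂ : ∀ {Z : FormalCoproduct.{u} C} (z : Z ⟶ B), z ≫ p = z ≫ q → ∀ k : κ₂,
      z ≫ πi ⟨k.1, pr k.2.1 k.2.2⟩ = z ≫ prod.fst ≫ K.map k.2.1.op ≫ (endMap a b k.2.2).app (op ⦋(k.1 : ℕ)⦌) :=
    fun z hz k => by
    have := hz =≫ (prod.snd ≫ Pi.π (fun k : κ₂ => L _⦋(k.1 : ℕ)⦌) k)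
    simpa only [p, q, Category.assoc, prod.lift_snd_assoc, Pi.lift_π] using this
  let e := equalizer.ι p q
  obtain ⟨h₀, hnat₀, hv₀⟩ := exists_extend_trunc (T := Cyl N) (L := L) (Z := equalizer p q)
    (fun d hd f => e ≫ πi ⟨⟨d, hd⟩, f⟩) (fun d d' hd hd' φ f => by
      rw [Category.assoc]
      exact hpq₁ e (equalizer.condition p q) ⟨⟨⟨d, hd⟩, f⟩, ⟨d', hd'⟩, φ⟩)
  have hends : ∀ (Δ : SimplexCategory) (α : Δ ⟶ N) (x : Fin 2),
      h₀ Δ (pr α x) = (e ≫ prod.fst) ≫ K.map α.op ≫ (endMap a b x).app (op Δ) := by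
    intro Δ α x
    obtain ⟨d, α₀, σ, hα₀, hα⟩ := exists_strictMono_factor (T := Fin (N.len + 1)) α.toOrderHom
    let α' : (⦋d⦌ : SimplexCategory) ⟶ N := SimplexCategory.Hom.mk α₀
    have hd : d < D := by
      have h1 := len_lt_of_strictMono hα₀
      simp only [D, Fintype.card_prod, Fintype.card_fin] at h1 ⊢
      omega
    have e1 : α = σ ≫ α' := SimplexCategory.Hom.ext _ _ hα.symm
    subst e1
    rw [← rs_pr, ← hnat₀, hv₀ d hd, hpq₂ e (equalizer.condition p q) ⟨⟨d, hd⟩, α', x⟩, op_comp,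
      Functor.map_comp]
    simp only [Category.assoc]
    rw [← (endMap a b x).naturality]
  refine ⟨equalizer p q, ⟨e ≫ prod.fst, h₀, hnat₀, hends⟩, fun Z x => ?_⟩
  let z : Z ⟶ B := prod.lift x.w (Pi.lift fun i : ι => x.h _ i.2)
  have hzπ : ∀ i : ι, z ≫ πi i = x.h _ i.2 := fun i => by
    simp only [z, πi, prod.lift_snd_assoc, Pi.lift_π]
  have hz : z ≫ p = z ≫ q := by
    refine prod.hom_ext (Limits.Pi.hom_ext _ _ fun k => ?_) (Limits.Pi.hom_ext _ _ fun k => ?_)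
    · simp only [p, q, Category.assoc, prod.lift_fst_assoc, Pi.lift_π]
      rw [reassoc_of% (hzπ k.1), hzπ]
      exact x.nat k.2.2 k.1.2
    · simp only [p, q, Category.assoc, prod.lift_snd_assoc, Pi.lift_π]
      rw [hzπ]
      simp only [z, prod.lift_fst_assoc]
      exact x.ends _ k.2.1 k.2.2
  have hlift : ∀ i : ι, equalizer.lift z hz ≫ h₀ _ i.2 = x.h _ i.2 := fun i => by
    rw [hv₀ _ i.1.2, equalizer.lift_ι_assoc, hzπ]
  refine ⟨equalizer.lift z hz, Htp.ext ?_ (funext fun Δ => funext fun f => ?_), fun g hg => ?_⟩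
  · show equalizer.lift z hz ≫ e ≫ prod.fst = x.w
    rw [equalizer.lift_ι_assoc, prod.lift_fst]
  · obtain ⟨d, f₀, σ, hf₀, rfl⟩ := exists_strictMono_factor f
    show equalizer.lift z hz ≫ h₀ Δ (rs σ f₀) = x.h Δ (rs σ f₀)
    rw [← hnat₀, ← x.nat, ← Category.assoc, hlift ⟨⟨d, len_lt_of_strictMono hf₀⟩, f₀⟩]
  · refine equalizer.hom_ext (Eq.trans ?_ (equalizer.lift_ι z hz).symm)
    refine prod.hom_ext ?_ (Limits.Pi.hom_ext _ _ fun i => ?_)
    · simp only [z, prod.lift_fst, Category.assoc]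
      exact congrArg Htp.w hg
    · simp only [z, prod.lift_snd, Category.assoc, Pi.lift_π]
      have h1 : g ≫ h₀ _ i.2 = x.h _ i.2 := congrFun (congrFun (congrArg Htp.h hg) _) i.2
      rw [hv₀ _ i.1.2] at h1
      exact h1

end

end Groth.L07.Hyper
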