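import Groth.Agent.L10.Hyper.Refine

/-! Products of hypercoverings. -/

universe u

open CategoryTheory CategoryTheory.Limits Opposite Simplicial

set_option backward.defeqAttrib.useBackward true
set_option backward.isDefEq.respectTransparency false

namespace Groth.L07.Hyper

open Groth.L10.Hyper

variable {C : Type u} [SmallCategory C] {J : GrothendieckTopology C} [HasFiniteProducts (FormalCoproduct.{u} C)]

/-- The levelwise product. -/
noncomputable def prodObj (K L : SimplicialObject (FormalCoproduct.{u} C)) : SimplicialObject (FormalCoproduct.{u} C) where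
  obj Δ := prod (K.obj Δ) (L.obj Δ)
  map θ := prod.map (K.map θ) (L.map θ)

/-- The first projection. -/
noncomputable def prodFst (K L : SimplicialObject (FormalCoproduct.{u} C)) : prodObj K L ⟶ K where
  app Δ := prod.fst
  naturality Δ Δ' θ := prod.map_fst _ _

/-- The second projection. -/
noncomputable def prodSnd (K L : SimplicialObject (FormalCoproduct.{u} C)) : prodObj K L ⟶ L where
  app Δ := prod.snd
  naturality Δ Δ' θ := prod.map_snd _ _

theorem compat_comp {K L : SimplicialObject (FormalCoproduct.{u} C)} (f : K ⟶ L) {n : ℕ} {U : C}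
    {y : Fin (n + 2) → ((FormalCoproduct.incl C).obj U ⟶ K _⦋n⦌)} (hy : Compat y) :
    Compat (fun j => y j ≫ f.app (op ⦋n⦌)) := by
  rintro k rfl i j hij
  have h := hy k rfl i j hij
  simp only [Fin.cast_refl, id_eq] at h ⊢
  have hn : ∀ l : Fin (k + 2), f.app (op ⦋k + 1⦌) ≫ L.δ l = K.δ l ≫ f.app (op ⦋k⦌) := fun l =>
    (f.naturality (SimplexCategory.δ l).op).symm
  rw [Category.assoc, Category.assoc, hn, hn, reassoc_of% h]

theorem homFill_prod {K L : SimplicialObject (FormalCoproduct.{u} C)} (hK : HomFill J K) (hL : HomFill J L) :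
    HomFill J (prodObj K L) := fun n U y hy => by
  obtain ⟨S, hS, hw⟩ := hK n U _ (compat_comp (prodFst K L) hy)
  obtain ⟨T, hT, hv⟩ := hL n U _ (compat_comp (prodSnd K L) hy)
  refine ⟨S ⊓ T, J.intersection_covering hS hT, fun V g hg => ?_⟩
  obtain ⟨w, hw⟩ := hw g hg.1
  obtain ⟨v, hv⟩ := hv g hg.2
  refine ⟨prod.lift w v, fun j => ?_⟩
  refine prod.hom_ext ?_ ?_
  · show (_ ≫ prod.map _ _) ≫ prod.fst = _
    rw [Category.assoc, prod.map_fst, prod.lift_fst_assoc, Category.assoc]
    exact hw j
  · show (_ ≫ prod.map _ _) ≫ prod.snd = _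
    rw [Category.assoc, prod.map_snd, prod.lift_snd_assoc, Category.assoc]
    exact hv j

theorem homVertex_prod {K L : SimplicialObject (FormalCoproduct.{u} C)} (hK : HomVertex J K) (hL : HomVertex J L) :
    HomVertex J (prodObj K L) := fun U => by
  obtain ⟨S, hS, hw⟩ := hK U
  obtain ⟨T, hT, hv⟩ := hL U
  exact ⟨S ⊓ T, J.intersection_covering hS hT, fun V g hg => ⟨prod.lift (hw g hg.1).some (hv g hg.2).some⟩⟩

end Groth.L07.Hyper
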