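import Groth.Agent.L07.Hyper.Htp
import Groth.Agent.L07.Hyper.Prod
import Mathlib.AlgebraicTopology.SimplicialObject.Homotopy

/-! The refinement of a hypercovering on which two maps become homotopic. -/

universe u

open CategoryTheory CategoryTheory.Limits Opposite Simplicial

set_option backward.defeqAttrib.useBackward true
set_option backward.isDefEq.respectTransparency false

namespace Groth.L07.Hyper

open Groth.L10.Hyper

variable {C : Type u} [SmallCategory C] [HasFiniteProducts (FormalCoproduct.{u} C)]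
  [HasEqualizers (FormalCoproduct.{u} C)] {K L : SimplicialObject (FormalCoproduct.{u} C)} (a b : K ⟶ L)

/-- The representing object. -/
noncomputable def HObj (N : SimplexCategory) : FormalCoproduct.{u} C := (exists_univ a b N).choose

/-- The universal homotopy. -/
noncomputable def univHtp (N : SimplexCategory) : Htp a b N (HObj a b N) := (exists_univ a b N).choose_spec.choose

theorem existsUnique_res {N : SimplexCategory} {Z : FormalCoproduct.{u} C} (x : Htp a b N Z) :
    ∃! g : Z ⟶ HObj a b N, (univHtp a b N).res g = x :=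
  (exists_univ a b N).choose_spec.choose_spec Z x

/-- The classifying map. -/
noncomputable def classify {N : SimplexCategory} {Z : FormalCoproduct.{u} C} (x : Htp a b N Z) : Z ⟶ HObj a b N :=
  (existsUnique_res a b x).choose

theorem res_classify {N : SimplexCategory} {Z : FormalCoproduct.{u} C} (x : Htp a b N Z) :
    (univHtp a b N).res (classify a b x) = x := (existsUnique_res a b x).choose_spec.1

theorem res_ext {N : SimplexCategory} {Z : FormalCoproduct.{u} C} {g g' : Z ⟶ HObj a b N}
    (h : (univHtp a b N).res g = (univHtp a b N).res g') : g = g' :=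
  (existsUnique_res a b ((univHtp a b N).res g')).unique h rfl

/-- The simplicial object of homotopies. -/
noncomputable def path : SimplicialObject (FormalCoproduct.{u} C) where
  obj Δ := HObj a b Δ.unop
  map θ := classify a b ((univHtp a b _).act θ.unop)
  map_id Δ := res_ext a b (by rw [res_classify, unop_id, Htp.act_id, Htp.res_id])
  map_comp θ θ' := res_ext a b (by
    rw [res_classify, ← Htp.res_res, res_classify, Htp.act_res, res_classify, Htp.act_act, unop_comp])

theorem res_map {Δ Δ' : SimplexCategoryᵒᵖ} (θ : Δ ⟶ Δ') :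
    (univHtp a b Δ'.unop).res ((path a b).map θ) = (univHtp a b Δ.unop).act θ.unop :=
  res_classify a b _

/-- The projection to the source. -/
noncomputable def pathFst : path a b ⟶ K where
  app Δ := (univHtp a b Δ.unop).w
  naturality Δ Δ' θ := congrArg Htp.w (res_map a b θ)

theorem map_h {N N' Δ : SimplexCategory} (θ : N' ⟶ N) (f : Simp (Cyl N') Δ) :
    (path a b).map θ.op ≫ (univHtp a b N').h Δ f = (univHtp a b N).h Δ ((cylMap θ).comp f) :=
  congrFun (congrFun (congrArg Htp.h (res_map a b θ.op)) Δ) f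

/-- The prisms. -/
def prism {n : ℕ} (i : Fin (n + 1)) : Simp (Cyl ⦋n⦌) ⦋n + 1⦌ :=
  ⟨fun j => (i.predAbove j, if (j : ℕ) ≤ i then 0 else 1), fun j k h =>
    ⟨Fin.predAbove_right_monotone i h, by
      have hjk : (j : ℕ) ≤ k := h
      simp only
      split_ifs with h1 h2 <;> first | exact le_rfl | exact Fin.zero_le _ | omega⟩⟩

theorem predAbove_val {n : ℕ} (p : Fin n) (x : Fin (n + 1)) :
    (p.predAbove x).val = if x.val ≤ p.val then x.val else x.val - 1 := by
  simp only [Fin.predAbove, Fin.lt_def, Fin.val_castSucc]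
  split_ifs <;> simp only [Fin.val_pred, Fin.coe_castPred] <;> omega

theorem succAbove_val {n : ℕ} (p : Fin (n + 1)) (x : Fin n) :
    (p.succAbove x).val = if x.val < p.val then x.val else x.val + 1 := by
  simp only [Fin.succAbove, Fin.lt_def, Fin.val_castSucc]
  split_ifs <;> simp

theorem rs_prism_zero (n : ℕ) :
    rs (SimplexCategory.δ 0) (prism (0 : Fin (n + 1))) = pr (𝟙 (⦋n⦌ : SimplexCategory)) 1 := by
  refine OrderHom.ext _ _ (funext fun x => ?_)
  show ((0 : Fin (n + 1)).predAbove ((0 : Fin (n + 2)).succAbove x), _) = (x, (1 : Fin 2))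
  simp only [Fin.succAbove_zero, Fin.predAbove_zero_succ, Prod.mk.injEq, true_and]
  exact if_neg (by show ¬ ((0 : Fin (n + 2)).succAbove x).val ≤ _; rw [succAbove_val]; simp)

theorem rs_prism_last (n : ℕ) :
    rs (SimplexCategory.δ (Fin.last (n + 1))) (prism (Fin.last n)) = pr (𝟙 (⦋n⦌ : SimplexCategory)) 0 := by
  refine OrderHom.ext _ _ (funext fun x => ?_)
  show ((Fin.last n).predAbove ((Fin.last (n + 1)).succAbove x), _) = (x, (0 : Fin 2))
  simp only [Fin.succAbove_last, Fin.predAbove_last_castSucc, Prod.mk.injEq, true_and]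
  exact if_pos (by
    show ((Fin.last (n + 1)).succAbove x).val ≤ _
    rw [succAbove_val]
    have : x.val < n + 1 := x.isLt
    simp [this]; omega)

theorem rs_δ_eq {n : ℕ} (i : Fin (n + 3)) (j : Fin (n + 2)) (p : Fin (n + 2)) (q : Fin (n + 1))
    (h : ∀ x : ℕ, x < n + 2 →
      ((if (if x < i.val then x else x + 1) ≤ j.val then (if x < i.val then x else x + 1)
          else (if x < i.val then x else x + 1) - 1) =
        (if (if x ≤ q.val then x else x - 1) < p.val then (if x ≤ q.val then x else x - 1)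
          else (if x ≤ q.val then x else x - 1) + 1)) ∧
      ((if x < i.val then x else x + 1) ≤ j.val ↔ x ≤ q.val)) :
    rs (SimplexCategory.δ i) (prism j) = (cylMap (SimplexCategory.δ p)).comp (prism q) := by
  refine OrderHom.ext _ _ (funext fun x => ?_)
  have hx := h x.val x.isLt
  refine Prod.ext (Fin.ext ?_) ?_
  · show (j.predAbove (i.succAbove x)).val = (p.succAbove (q.predAbove x)).val
    rw [predAbove_val, succAbove_val, succAbove_val, predAbove_val]
    exact hx.1
  · show (if (i.succAbove x).val ≤ j.val then (0 : Fin 2) else 1) = if x.val ≤ q.val then 0 else 1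
    rw [succAbove_val]
    exact if_congr hx.2 rfl rfl

theorem rs_σ_eq {n : ℕ} (i : Fin (n + 2)) (j : Fin (n + 1)) (p : Fin (n + 1)) (q : Fin (n + 2))
    (h : ∀ x : ℕ, x < n + 3 →
      ((if (if x ≤ i.val then x else x - 1) ≤ j.val then (if x ≤ i.val then x else x - 1)
          else (if x ≤ i.val then x else x - 1) - 1) =
        (if (if x ≤ q.val then x else x - 1) ≤ p.val then (if x ≤ q.val then x else x - 1)
          else (if x ≤ q.val then x else x - 1) - 1)) ∧
      ((if x ≤ i.val then x else x - 1) ≤ j.val ↔ x ≤ q.val)) :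
    rs (SimplexCategory.σ i) (prism j) = (cylMap (SimplexCategory.σ p)).comp (prism q) := by
  refine OrderHom.ext _ _ (funext fun x => ?_)
  have hx := h x.val x.isLt
  refine Prod.ext (Fin.ext ?_) ?_
  · show (j.predAbove (i.predAbove x)).val = (p.predAbove (q.predAbove x)).val
    rw [predAbove_val, predAbove_val, predAbove_val, predAbove_val]
    exact hx.1
  · show (if (i.predAbove x).val ≤ j.val then (0 : Fin 2) else 1) = if x.val ≤ q.val then 0 else 1
    rw [predAbove_val]
    exact if_congr hx.2 rfl rfl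

/-- The universal homotopy as a simplicial homotopy. -/
noncomputable def pathHomotopy : SimplicialObject.Homotopy (pathFst a b ≫ a) (pathFst a b ≫ b) where
  h {n} i := (univHtp a b ⦋n⦌).h ⦋n + 1⦌ (prism i)
  h_zero_comp_δ_zero n := by
    erw [Htp.nat, rs_prism_zero, Htp.ends, op_id, CategoryTheory.Functor.map_id, Category.id_comp]
    rfl
  h_last_comp_δ_last n := by
    erw [Htp.nat, rs_prism_last, Htp.ends, op_id, CategoryTheory.Functor.map_id, Category.id_comp]
    rfl
  h_succ_comp_δ_castSucc_of_lt {n} i j hij := by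
    erw [Htp.nat, map_h]
    refine congrArg _ (rs_δ_eq _ _ _ _ fun x hx => ?_)
    have hij' : (i : ℕ) ≤ j := hij
    simp only [Fin.val_castSucc, Fin.val_succ]
    constructor <;> split_ifs <;> omega
  h_succ_comp_δ_castSucc_succ {n} j := by
    erw [Htp.nat, Htp.nat]
    refine congrArg _ (OrderHom.ext _ _ (funext fun x => ?_))
    have hv : (j.castSucc.succ.succAbove x).val = if x.val < j.val + 1 then x.val else x.val + 1 := by
      rw [succAbove_val, Fin.val_succ, Fin.val_castSucc]
    refine Prod.ext (Fin.ext ?_) ?_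
    · show (j.succ.predAbove (j.castSucc.succ.succAbove x)).val = (j.castSucc.predAbove (j.castSucc.succ.succAbove x)).val
      rw [predAbove_val, predAbove_val, hv, Fin.val_succ, Fin.val_castSucc]
      split_ifs <;> omega
    · show (if _ then (0 : Fin 2) else 1) = if _ then 0 else 1
      refine if_congr ?_ rfl rfl
      show (j.castSucc.succ.succAbove x).val ≤ _ ↔ (j.castSucc.succ.succAbove x).val ≤ _
      rw [hv, Fin.val_succ, Fin.val_castSucc]
      split_ifs <;> omega
  h_castSucc_comp_δ_succ_of_lt {n} i j hji := by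
    erw [Htp.nat, map_h]
    refine congrArg _ (rs_δ_eq _ _ _ _ fun x hx => ?_)
    have hij' : (j : ℕ) < i := hji
    simp only [Fin.val_castSucc, Fin.val_succ]
    constructor <;> split_ifs <;> omega
  h_comp_σ_castSucc_of_le {n} i j hij := by
    erw [Htp.nat, map_h]
    refine congrArg _ (rs_σ_eq _ _ _ _ fun x hx => ?_)
    have hij' : (i : ℕ) ≤ j := hij
    simp only [Fin.val_castSucc, Fin.val_succ]
    constructor <;> split_ifs <;> omega
  h_comp_σ_succ_of_lt {n} i j hji := by
    erw [Htp.nat, map_h]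
    refine congrArg _ (rs_σ_eq _ _ _ _ fun x hx => ?_)
    have hij' : (j : ℕ) ≤ i := hji
    simp only [Fin.val_castSucc, Fin.val_succ]
    constructor <;> split_ifs <;> omega

variable {J : GrothendieckTopology C}

/-- A family of boundary data extends locally to a homotopy. -/
theorem exists_fill_htp (hL : HomFill J L) {N : SimplexCategory} {ι : Type} {V : C} {N' : ι → SimplexCategory}
    (δ : ∀ k, N' k ⟶ N) (w : (FormalCoproduct.incl C).obj V ⟶ K.obj (op N))
    (x : ∀ k, Htp a b (N' k) ((FormalCoproduct.incl C).obj V)) (hw : ∀ k, (x k).w = w ≫ K.map (δ k).op)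
    (hx : ∀ k l (Δ : SimplexCategory) (f : Simp (Cyl (N' k)) Δ) (g : Simp (Cyl (N' l)) Δ),
      (cylMap (δ k)).comp f = (cylMap (δ l)).comp g → (x k).h Δ f = (x l).h Δ g) :
    ∃ R ∈ J V, ∀ ⦃W⦄ (c : W ⟶ V), R c → ∃ y : Htp a b N ((FormalCoproduct.incl C).obj W),
      y.w = (FormalCoproduct.incl C).map c ≫ w ∧ ∀ k, y.act (δ k) = (x k).res ((FormalCoproduct.incl C).map c) := by
  classical
  let E : ∀ Δ, Simp (Cyl N) Δ → Prop := fun Δ f => ∃ (α : Δ ⟶ N) (e : Fin 2), f = pr α e
  let F : ∀ Δ, Simp (Cyl N) Δ → Prop := fun Δ f => ∃ k g, f = (cylMap (δ k)).comp (g : Simp (Cyl (N' k)) Δ)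
  let v : ∀ Δ f, E Δ f ∨ F Δ f → ((FormalCoproduct.incl C).obj V ⟶ L.obj (op Δ)) := fun Δ f h =>
    if hE : E Δ f then w ≫ K.map hE.choose.op ≫ (endMap a b hE.choose_spec.choose).app (op Δ)
    else (x (h.resolve_left hE).choose).h Δ (h.resolve_left hE).choose_spec.choose
  have keyE : ∀ {Δ : SimplexCategory} (α : Δ ⟶ N) (e : Fin 2) h,
      v Δ (pr α e) h = w ≫ K.map α.op ≫ (endMap a b e).app (op Δ) := by
    intro Δ α e h
    have hE : E Δ (pr α e) := ⟨α, e, rfl⟩
    simp only [v, dif_pos hE]
    have gen : ∀ (α' : Δ ⟶ N) (e' : Fin 2), pr α e = pr α' e' →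
        w ≫ K.map α'.op ≫ (endMap a b e').app (op Δ) = w ≫ K.map α.op ≫ (endMap a b e).app (op Δ) := by
      intro α' e' he
      obtain ⟨rfl, rfl⟩ := pr_injective he
      rfl
    exact gen _ _ hE.choose_spec.choose_spec
  have keyF : ∀ {Δ : SimplexCategory} (k : ι) (g : Simp (Cyl (N' k)) Δ) h,
      v Δ ((cylMap (δ k)).comp g) h = (x k).h Δ g := by
    intro Δ k g h
    by_cases hE : E Δ ((cylMap (δ k)).comp g)
    · obtain ⟨α, e, he⟩ := hE
      let α₁ : Δ ⟶ N' k := SimplexCategory.Hom.mk (OrderHom.fst.comp g)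
      have hg : g = pr α₁ e := OrderHom.ext _ _ (funext fun y => Prod.ext rfl (by
        have := congrArg Prod.snd (DFunLike.congr_fun he y)
        exact this))
      clear_value α₁
      subst hg
      refine (keyE (α₁ ≫ δ k) e h).trans ?_
      rw [(x k).ends, hw, op_comp, Functor.map_comp, Category.assoc, Category.assoc]
    · simp only [v, dif_neg hE]
      generalize_proofs h1 h2
      exact hx _ _ _ _ _ h2.choose_spec.symm
  let Q : PFam L (Cyl N) V :=
    { S := fun Δ f => E Δ f ∨ F Δ f
      closed := fun φ f h => h.imp (fun ⟨α, e, he⟩ => ⟨φ ≫ α, e, by rw [he, rs_pr]⟩)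
        fun ⟨k, g, hg⟩ => ⟨k, rs φ g, by rw [hg, cylMap_rs]⟩
      v := v
      nat := fun {Δ Δ'} φ f h => by
        by_cases hE : E Δ f
        · obtain ⟨α, e, rfl⟩ := hE
          have h' : E Δ' (pr (φ ≫ α) e) ∨ F Δ' (pr (φ ≫ α) e) := Or.inl ⟨_, _, rfl⟩
          rw [keyE α e h]
          refine Eq.trans ?_ (keyE (φ ≫ α) e h').symm
          rw [op_comp, Functor.map_comp, Category.assoc, Category.assoc, Category.assoc,
            (endMap a b e).naturality]
        · obtain ⟨k, g, rfl⟩ := h.resolve_left hE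
          rw [keyF k g h, (x k).nat]
          exact (keyF k (rs φ g) (Or.inr ⟨k, _, rfl⟩)).symm }
  obtain ⟨R, hR, hP⟩ := exists_extend_all hL Q fun f => Or.inl
    ⟨SimplexCategory.Hom.mk (OrderHom.fst.comp f), (f 0).2, OrderHom.ext _ _ (funext fun y => by
      rw [show y = 0 from Subsingleton.elim (α := Fin 1) y 0]
      exact Prod.ext rfl rfl)⟩
  refine ⟨R, hR, fun W c hc => ?_⟩
  obtain ⟨P, hPQ, hPall⟩ := hP c hc
  let y : Htp a b N ((FormalCoproduct.incl C).obj W) :=
    { w := (FormalCoproduct.incl C).map c ≫ w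
      h := fun Δ f => P.v Δ f (hPall Δ f)
      nat := fun φ f => P.nat φ f (hPall _ f)
      ends := fun Δ α e => by
        have hq : Q.S Δ (pr α e) := Or.inl ⟨α, e, rfl⟩
        obtain ⟨_, h1⟩ := hPQ Δ _ hq
        refine h1.trans ?_
        show _ ≫ v Δ _ hq = _
        rw [keyE α e hq, Category.assoc] }
  refine ⟨y, rfl, fun k => Htp.ext ?_ (funext fun Δ => funext fun g => ?_)⟩
  · show (_ ≫ w) ≫ K.map _ = _ ≫ (x k).w
    rw [hw, Category.assoc]
  · have hq : Q.S Δ ((cylMap (δ k)).comp g) := Or.inr ⟨k, g, rfl⟩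
    obtain ⟨_, h1⟩ := hPQ Δ _ hq
    refine h1.trans ?_
    show _ ≫ v Δ _ hq = _
    rw [keyF k g hq]
    rfl

theorem homVertex_path (hK : HomVertex J K) (hL : HomFill J L) : HomVertex J (path a b) := fun U => by
  obtain ⟨S, hS, hv⟩ := hK U
  choose R hR hy using fun (V : C) (g : V ⟶ U) (hg : S g) =>
    exists_fill_htp a b hL (N := ⦋0⦌) (ι := PEmpty) (N' := PEmpty.elim) (fun k => k.elim) (hv g hg).some
      (fun k => k.elim) (fun k => k.elim) (fun k => k.elim)
  refine ⟨Sieve.bind S.arrows fun V g hg => R V g hg, J.bind_covering hS (fun V g hg => hR V g hg), ?_⟩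
  rintro W _ ⟨V, c, g, hg, hc, rfl⟩
  obtain ⟨y, -, -⟩ := hy V g hg c hc
  exact ⟨classify a b y⟩

theorem homFill_path (hK : HomFill J K) (hL : HomFill J L) : HomFill J (path a b) := fun n U y hy => by
  obtain ⟨S, hS, hw⟩ := hK n U _ (compat_comp (pathFst a b) hy)
  choose w hw' using fun (V : C) (g : V ⟶ U) (hg : S g) => hw g hg
  let xx : ∀ (V : C) (_ : V ⟶ U) (_ : Fin (n + 2)), Htp a b ⦋n⦌ ((FormalCoproduct.incl C).obj V) :=
    fun V g k => (univHtp a b ⦋n⦌).res ((FormalCoproduct.incl C).map g ≫ y k)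
  choose R hR hz using fun (V : C) (g : V ⟶ U) (hg : S g) =>
    exists_fill_htp a b hL (N := ⦋n + 1⦌) (ι := Fin (n + 2)) (N' := fun _ => ⦋n⦌) SimplexCategory.δ (w V g hg)
      (xx V g) (fun k => by
        show ((FormalCoproduct.incl C).map g ≫ y k) ≫ (pathFst a b).app (op ⦋n⦌) = _
        rw [Category.assoc]
        exact (hw' V g hg k).symm)
      (fun k l Δ f f' he => by
        let γ : Δ ⟶ ⦋n⦌ := SimplexCategory.Hom.mk (OrderHom.fst.comp f)
        let γ' : Δ ⟶ ⦋n⦌ := SimplexCategory.Hom.mk (OrderHom.fst.comp f')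
        let β : Simp (Cyl Δ) Δ := OrderHom.id.prod (OrderHom.snd.comp f)
        have hf : f = (cylMap γ).comp β := rfl
        have hf' : f' = (cylMap γ').comp β := OrderHom.ext _ _ (funext fun z => Prod.ext rfl (by
          have := congrArg Prod.snd (DFunLike.congr_fun he z)
          exact this.symm))
        have hγ : γ ≫ SimplexCategory.δ k = γ' ≫ SimplexCategory.δ l :=
          SimplexCategory.Hom.ext _ _ (OrderHom.ext _ _ (funext fun z => congrArg Prod.fst (DFunLike.congr_fun he z)))
        rw [hf, hf']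
        show (_ ≫ y k) ≫ (univHtp a b ⦋n⦌).h Δ _ = (_ ≫ y l) ≫ (univHtp a b ⦋n⦌).h Δ _
        rw [← map_h, ← map_h, Category.assoc, Category.assoc, reassoc_of% (well_defined hy γ γ' hγ)])
  refine ⟨Sieve.bind S.arrows fun V g hg => R V g hg, J.bind_covering hS (fun V g hg => hR V g hg), ?_⟩
  rintro W _ ⟨V, c, g, hg, hc, rfl⟩
  obtain ⟨z, -, hz'⟩ := hz V g hg c hc
  refine ⟨classify a b z, fun j => res_ext a b ?_⟩
  rw [← Htp.res_res, SimplicialObject.δ, res_map, Htp.act_res]
  simp only [unop_op, Quiver.Hom.unop_op]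
  rw [res_classify, hz' j]
  show (xx V g j).res _ = _
  rw [Htp.res_res, Functor.map_comp, Category.assoc]

end Groth.L07.Hyper
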